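import Mathlib.FieldTheory.IsAlgClosed.Classification
import Mathlib.RingTheory.AlgebraicIndependent.Adjoin
import Mathlib.RingTheory.AlgebraicIndependent.TranscendenceBasis
import Mathlib.RingTheory.Algebraic.Cardinality

/-!
A field extension smaller than an algebraically closed field embeds into it over the base field.
-/

universe u

open Cardinal IntermediateField

namespace Groth.Agent.FieldEmbed

theorem exists_algHom_of_card_lt (F L k : Type u) [Field F] [Field L] [Field k] [Algebra F L] [Algebra F k]
    [IsAlgClosed k] (h : #L < #k) : Nonempty (L →ₐ[F] k) := by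
  by_cases ha : Algebra.IsAlgebraic F L
  · exact ⟨IsAlgClosed.lift⟩
  have hL : Infinite L := by
    by_contra hf
    have : Finite L := not_infinite_iff_finite.1 hf
    exact ha (Algebra.IsAlgebraic.of_finite F L)
  have hℵ : ℵ₀ ≤ #L := aleph0_le_mk L
  obtain ⟨s, hs⟩ := exists_isTranscendenceBasis F L
  obtain ⟨t, ht⟩ := exists_isTranscendenceBasis F k
  have hF : #F ≤ #L := mk_le_of_injective (algebraMap F L).injective
  have hst : #s ≤ #t := by
    by_contra hn
    have h1 : #t ≤ #L := (le_of_lt (not_le.1 hn)).trans (mk_set_le s)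
    have h2 := IsAlgClosed.cardinal_le_max_transcendence_basis' (R := F) (K' := k) ((↑) : t → k) ht
    exact not_le.2 h (h2.trans (max_le (max_le hF h1) hℵ))
  obtain ⟨g⟩ := hst
  have hy : AlgebraicIndependent F (((↑) : t → k) ∘ g) := ht.1.comp g g.injective
  let E := IntermediateField.adjoin F (Set.range ((↑) : s → L))
  let ψ : E →ₐ[F] k :=
    (IntermediateField.adjoin F (Set.range (((↑) : t → k) ∘ g))).val.comp
      (hy.aevalEquivField.toAlgHom.comp hs.1.aevalEquivField.symm.toAlgHom)
  have : Algebra.IsAlgebraic E L := hs.isAlgebraic_field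
  let _ : Algebra E k := ψ.toRingHom.toAlgebra
  have : IsScalarTower F E k := IsScalarTower.of_algebraMap_eq fun x => (ψ.commutes x).symm
  exact ⟨(IsAlgClosed.lift : L →ₐ[E] k).restrictScalars F⟩

end Groth.Agent.FieldEmbed
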